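import Mathlib

set_option autoImplicit false
universe u

namespace Groth.Agent.H5.HensCouple

/-- The topological lifting property of clopen subsets along a closed subset `Z`. -/
def TopProp {X : Type*} [TopologicalSpace X] (Z : Set X) : Prop :=
  ∀ W : Set X, IsClosed W → (∃ O, IsOpen O ∧ W = O ∩ Z) →
    ∃! U : Set X, IsClopen U ∧ U ∩ Z = W

lemma preimage_eq_iff {P Y : Type*} (f : P → Y) (hf : Function.Injective f) (U : Set Y)
    (V : Set P) : f ⁻¹' U = V ↔ U ∩ Set.range f = f '' V := by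
  rw [← Set.image_preimage_eq_inter_range]
  exact ⟨fun h => by rw [h], fun h => hf.image_injective h⟩

theorem clopen_lift_iff {P Y : Type*} [TopologicalSpace P] [TopologicalSpace Y] (f : P → Y)
    (hf : Topology.IsClosedEmbedding f) :
    (∀ V : Set P, IsClopen V → ∃! U : Set Y, IsClopen U ∧ f ⁻¹' U = V) ↔
      TopProp (Set.range f) := by
  constructor
  · intro H W hW ⟨O, hO, hWO⟩
    have hV : IsClopen (f ⁻¹' W) := by
      refine ⟨hW.preimage hf.continuous, ?_⟩
      have : f ⁻¹' W = f ⁻¹' O := by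
        rw [hWO, Set.preimage_inter, Set.preimage_range, Set.inter_univ]
      rw [this]
      exact hO.preimage hf.continuous
    have hWr : f '' (f ⁻¹' W) = W := by
      rw [Set.image_preimage_eq_inter_range, hWO, Set.inter_assoc, Set.inter_self]
    obtain ⟨U, ⟨hU, hUV⟩, huniq⟩ := H _ hV
    refine ⟨U, ⟨hU, ?_⟩, ?_⟩
    · rw [← hWr]
      exact (preimage_eq_iff f hf.injective U _).mp hUV
    · rintro U' ⟨hU', hU'W⟩
      apply huniq
      refine ⟨hU', (preimage_eq_iff f hf.injective U' _).mpr ?_⟩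
      rw [hWr]; exact hU'W
  · intro H V hV
    have hW : IsClosed (f '' V) := hf.isClosedMap _ hV.1
    obtain ⟨O, hO, hOV⟩ := hf.isInducing.isOpen_iff.mp hV.2
    have hWO : f '' V = O ∩ Set.range f := by
      rw [← hOV, Set.image_preimage_eq_inter_range]
    obtain ⟨U, ⟨hU, hUW⟩, huniq⟩ := H _ hW ⟨O, hO, hWO⟩
    refine ⟨U, ⟨hU, (preimage_eq_iff f hf.injective U V).mpr hUW⟩, ?_⟩
    rintro U' ⟨hU', hU'V⟩
    exact huniq U' ⟨hU', (preimage_eq_iff f hf.injective U' V).mp hU'V⟩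

/-- Invariance under homeomorphisms. -/
theorem topProp_of_homeomorph {X X' : Type*} [TopologicalSpace X] [TopologicalSpace X']
    (φ : X ≃ₜ X') (Z : Set X) (h : TopProp Z) : TopProp (φ '' Z) := by
  intro W hW ⟨O, hO, hWO⟩
  have hW' : IsClosed (φ ⁻¹' W) := hW.preimage φ.continuous
  have hO' : IsOpen (φ ⁻¹' O) := hO.preimage φ.continuous
  have hWO' : φ ⁻¹' W = φ ⁻¹' O ∩ Z := by
    rw [hWO, Set.preimage_inter, φ.preimage_image]
  obtain ⟨U, ⟨hU, hUW⟩, huniq⟩ := h _ hW' ⟨_, hO', hWO'⟩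
  refine ⟨φ '' U, ⟨⟨φ.isClosed_image.mpr hU.1, φ.isOpen_image.mpr hU.2⟩, ?_⟩, ?_⟩
  · rw [← Set.image_inter φ.injective, hUW, φ.image_preimage]
  · rintro U' ⟨hU', hU'W⟩
    have := huniq (φ ⁻¹' U') ⟨hU'.preimage φ.continuous, by
      rw [← φ.preimage_image Z, ← Set.preimage_inter, hU'W]⟩
    rw [← this, φ.image_preimage]

end Groth.Agent.H5.HensCouple
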