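import Mathlib
import Groth.Agent.Lib.Helper5.HensCouple.A

set_option autoImplicit false
universe u

open AlgebraicGeometry CategoryTheory Limits

namespace Groth.Agent.H5.HensCouple

theorem couple_iff {X X₀ Y : Scheme.{u}} (i : X₀ ⟶ X) [IsClosedImmersion i] (g : Y ⟶ X) :
    (∀ V : Set ↥(pullback g i), IsClopen V →
      ∃! U : Set ↥Y, IsClopen U ∧ (pullback.fst g i).base ⁻¹' U = V) ↔
    TopProp (g.base ⁻¹' Set.range i.base) := by
  rw [← Scheme.Pullback.range_fst]
  exact clopen_lift_iff _ (pullback.fst g i).isClosedEmbedding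

end Groth.Agent.H5.HensCouple
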