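import Mathlib
import Groth.Agent.Lib.Helper5.HensCouple.B
import Groth.Agent.Lib.Helper1.HensPairFin
import Groth.Agent.Lib.Helper8.HensPair.Converse

set_option autoImplicit false
universe u

open PrimeSpectrum

namespace Groth.Agent.H5.HensCouple

/-- Henselian pair ⇒ the topological lifting property on spectra of integral algebras. -/
theorem topProp_of_henselian {A : Type u} [CommRing A] (I : Ideal A) [h : HenselianRing A I]
    (B : Type u) [CommRing B] [Algebra A B] [Algebra.IsIntegral A B] :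
    TopProp (zeroLocus (I.map (algebraMap A B) : Set B)) := by
  intro W hW ⟨O, hO, hWO⟩
  obtain ⟨e, he, heW⟩ := Groth.Agent.H1.HensPairFin.exists_idempotent_basicOpen I B W O hW hO hWO
  have hJ : I.map (algebraMap A B) ≤ Ideal.jacobson ⊥ :=
    Groth.Agent.H8.HensPair.map_le_jacobson_of_isIntegral h.jac
  refine ⟨(basicOpen e : Set (PrimeSpectrum B)), ⟨PrimeSpectrum.isClopen_iff.mpr ⟨e, he, rfl⟩, heW⟩, ?_⟩
  rintro U' ⟨hU', hU'W⟩
  set U : Set (PrimeSpectrum B) := (basicOpen e : Set (PrimeSpectrum B)) with hUdef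
  have hU : IsClopen U := PrimeSpectrum.isClopen_iff.mpr ⟨e, he, rfl⟩
  have h1 : U' \ U = ∅ := by
    apply Groth.Agent.H1.HensPairFin.eq_empty_of_isClosed_of_inter_zeroLocus _ hJ _
      (hU'.1.sdiff hU.2)
    ext x
    simp only [Set.mem_inter_iff, Set.mem_diff, Set.mem_empty_iff_false, iff_false]
    rintro ⟨⟨hx1, hx2⟩, hx3⟩
    have : x ∈ U ∩ zeroLocus (I.map (algebraMap A B) : Set B) := by
      rw [heW, ← hU'W]; exact ⟨hx1, hx3⟩
    exact hx2 this.1
  have h2 : U \ U' = ∅ := by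
    apply Groth.Agent.H1.HensPairFin.eq_empty_of_isClosed_of_inter_zeroLocus _ hJ _
      (hU.1.sdiff hU'.2)
    ext x
    simp only [Set.mem_inter_iff, Set.mem_diff, Set.mem_empty_iff_false, iff_false]
    rintro ⟨⟨hx1, hx2⟩, hx3⟩
    have : x ∈ U' ∩ zeroLocus (I.map (algebraMap A B) : Set B) := by
      rw [hU'W, ← heW]; exact ⟨hx1, hx3⟩
    exact hx2 this.1
  exact Set.Subset.antisymm (Set.sdiff_eq_empty.mp h1) (Set.sdiff_eq_empty.mp h2)

section converse
variable {B : Type u} [CommRing B] (J : Ideal B)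

lemma comap_mk_mem_basicOpen_iff (b : B) (q : PrimeSpectrum (B ⧸ J)) :
    comap (Ideal.Quotient.mk J) q ∈ (basicOpen b : Set (PrimeSpectrum B)) ↔
      q ∈ (basicOpen (Ideal.Quotient.mk J b) : Set (PrimeSpectrum (B ⧸ J))) := Iff.rfl

lemma range_comap_mk : Set.range (comap (Ideal.Quotient.mk J)) = zeroLocus (J : Set B) := by
  rw [range_comap_of_surjective _ _ Ideal.Quotient.mk_surjective, Ideal.mk_ker]

/-- `D(b) ∩ V(J)` is the image of `D(b̄)`. -/
lemma basicOpen_inter_zeroLocus (b : B) :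
    (basicOpen b : Set (PrimeSpectrum B)) ∩ zeroLocus (J : Set B) =
      comap (Ideal.Quotient.mk J) '' (basicOpen (Ideal.Quotient.mk J b) : Set _) := by
  ext p
  constructor
  · rintro ⟨hp1, hp2⟩
    rw [← range_comap_mk] at hp2
    obtain ⟨q, rfl⟩ := hp2
    exact ⟨q, hp1, rfl⟩
  · rintro ⟨q, hq, rfl⟩
    exact ⟨hq, by rw [← range_comap_mk]; exact ⟨q, rfl⟩⟩

/-- The topological lifting property implies bijectivity on idempotents. -/
theorem bijOn_of_topProp (H : TopProp (zeroLocus (J : Set B))) :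
    Set.BijOn (Ideal.Quotient.mk J) {e : B | IsIdempotentElem e} {e | IsIdempotentElem e} := by
  have hinj : Function.Injective (comap (Ideal.Quotient.mk J)) :=
    comap_injective_of_surjective _ Ideal.Quotient.mk_surjective
  refine ⟨fun e he => he.map _, ?_, ?_⟩
  · intro e he e' he' hee'
    have hW : IsClosed ((basicOpen e : Set (PrimeSpectrum B)) ∩ zeroLocus (J : Set B)) :=
      (PrimeSpectrum.isClopen_iff.mpr ⟨e, he, rfl⟩).1.inter (isClosed_zeroLocus _)
    obtain ⟨U, -, huniq⟩ := H _ hW ⟨_, (basicOpen e).2, rfl⟩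
    have h1 := huniq _ ⟨PrimeSpectrum.isClopen_iff.mpr ⟨e, he, rfl⟩, rfl⟩
    have h2 := huniq _ ⟨PrimeSpectrum.isClopen_iff.mpr ⟨e', he', rfl⟩, by
      rw [basicOpen_inter_zeroLocus, basicOpen_inter_zeroLocus, hee']⟩
    exact basicOpen_injOn_isIdempotentElem he he' (SetLike.ext' (h1.trans h2.symm))
  · intro ē hē
    obtain ⟨b, rfl⟩ := Ideal.Quotient.mk_surjective ē
    have hcl : IsClopen (basicOpen (Ideal.Quotient.mk J b) : Set (PrimeSpectrum (B ⧸ J))) :=
      PrimeSpectrum.isClopen_iff.mpr ⟨_, hē, rfl⟩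
    have hW : IsClosed ((basicOpen b : Set (PrimeSpectrum B)) ∩ zeroLocus (J : Set B)) := by
      rw [basicOpen_inter_zeroLocus]
      exact (isClosedEmbedding_comap_of_surjective _ _ Ideal.Quotient.mk_surjective).isClosedMap _
        hcl.1
    obtain ⟨U, ⟨hU, hUW⟩, -⟩ := H _ hW ⟨_, (basicOpen b).2, rfl⟩
    obtain ⟨e, he, rfl⟩ := PrimeSpectrum.isClopen_iff.mp hU
    refine ⟨e, he, ?_⟩
    apply basicOpen_injOn_isIdempotentElem (he.map _) hē
    apply SetLike.ext'
    rw [basicOpen_inter_zeroLocus, basicOpen_inter_zeroLocus] at hUW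
    exact hinj.image_injective hUW

end converse

end Groth.Agent.H5.HensCouple
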