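import Mathlib
import Groth.Agent.Lib.Helper5.HensCouple.C

set_option autoImplicit false
universe u

open AlgebraicGeometry CategoryTheory Limits PrimeSpectrum

namespace Groth.Agent.H5.HensCouple

/-- The set identity: the preimage of `V(I)` under `Spec ψ` is `V(I B)`. -/
lemma preimage_range_eq {A B : Type u} [CommRing A] [CommRing B] (I : Ideal A) (ψ : A →+* B) :
    (Spec.map (CommRingCat.ofHom ψ)).base ⁻¹'
        Set.range (Spec.map (CommRingCat.ofHom (Ideal.Quotient.mk I))).base =
      zeroLocus (I.map ψ : Set B) := by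
  have h1 : Set.range (Spec.map (CommRingCat.ofHom (Ideal.Quotient.mk I))).base =
      zeroLocus (I : Set A) := by
    change Set.range (comap (Ideal.Quotient.mk I)) = _
    rw [range_comap_of_surjective _ _ Ideal.Quotient.mk_surjective, Ideal.mk_ker]
  rw [h1]
  change comap ψ ⁻¹' zeroLocus (I : Set A) = _
  rw [preimage_comap_zeroLocus, Ideal.map, zeroLocus_span]

lemma topProp_comp_iso {Y Y' X : Scheme.{u}} (e : Y ⟶ Y') [IsIso e] (g' : Y' ⟶ X) (S : Set X)
    (h : TopProp (g'.base ⁻¹' S)) : TopProp ((e ≫ g').base ⁻¹' S) := by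
  let φ : Y ≃ₜ Y' := e.homeomorph
  have := topProp_of_homeomorph φ.symm _ h
  have e1 : (e ≫ g').base ⁻¹' S = φ.symm '' (g'.base ⁻¹' S) := by
    rw [φ.symm.image_eq_preimage_symm]
    rfl
  rw [e1]
  exact this

end Groth.Agent.H5.HensCouple

namespace Groth.Agent.H5.HensCouple

theorem main (A : Type u) [CommRing A] (I : Ideal A) :
    HenselianRing A I ↔
    ∀ (Y : Scheme.{u}) (g : Y ⟶ Spec (CommRingCat.of A)), IsFinite g →
      ∀ V : Set ↥(pullback g (Spec.map (CommRingCat.ofHom (Ideal.Quotient.mk I)))), IsClopen V →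
        ∃! U : Set ↥Y, IsClopen U ∧
          (pullback.fst g (Spec.map (CommRingCat.ofHom (Ideal.Quotient.mk I)))).base ⁻¹' U = V := by
  haveI : IsClosedImmersion (Spec.map (CommRingCat.ofHom (Ideal.Quotient.mk I))) :=
    IsClosedImmersion.spec_of_surjective _ Ideal.Quotient.mk_surjective
  constructor
  · intro hH Y g hg
    rw [couple_iff]
    haveI : IsAffine Y := isAffine_of_isAffineHom g
    let ψc : CommRingCat.of A ⟶ Γ(Y, ⊤) := (Scheme.ΓSpecIso (CommRingCat.of A)).inv ≫ g.appTop
    have hfac : g = Y.isoSpec.hom ≫ Spec.map ψc := by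
      rw [Spec.map_comp, Scheme.isoSpec_hom_naturality_assoc]
      simp [Scheme.isoSpec]
    have hfin : IsFinite (Spec.map ψc) := by
      have : Spec.map ψc = Y.isoSpec.inv ≫ g := by rw [hfac, Iso.inv_hom_id_assoc]
      rw [this]
      infer_instance
    rw [IsFinite.SpecMap_iff] at hfin
    letI : Algebra A Γ(Y, ⊤) := ψc.hom.toAlgebra
    haveI : Module.Finite A Γ(Y, ⊤) := hfin
    haveI : Algebra.IsIntegral A Γ(Y, ⊤) := Algebra.IsIntegral.of_finite A _
    have h1 := topProp_of_henselian I Γ(Y, ⊤)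
    rw [hfac]
    apply topProp_comp_iso
    have h2 := preimage_range_eq I ψc.hom
    rw [CommRingCat.ofHom_hom] at h2
    rw [h2]
    exact h1
  · intro H
    apply Groth.Agent.H8.HensPair.henselianRing_of_bijOn_idempotents
    intro B _ _ hB
    apply bijOn_of_topProp
    have hfin : IsFinite (Spec.map (CommRingCat.ofHom (algebraMap A B))) := by
      rw [IsFinite.SpecMap_iff, CommRingCat.hom_ofHom]
      exact RingHom.finite_algebraMap.mpr hB
    have h1 := (couple_iff _ _).mp (H _ _ hfin)
    rwa [preimage_range_eq] at h1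

end Groth.Agent.H5.HensCouple
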