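import Mathlib
import Groth.Agent.Lib.Helper5.HensCouple.A

set_option autoImplicit false
universe u

namespace Groth.Agent.H5.HensCouple

/-- Gluing `TopProp` along a disjoint open cover. -/
theorem topProp_of_disjoint_cover {Y : Type*} [TopologicalSpace Y] {ι : Type*}
    {P : ι → Type*} [∀ j, TopologicalSpace (P j)] (f : ∀ j, P j → Y)
    (hf : ∀ j, Topology.IsOpenEmbedding (f j))
    (hdisj : ∀ j k, j ≠ k → Disjoint (Set.range (f j)) (Set.range (f k)))
    (hcov : ∀ y : Y, ∃ j, y ∈ Set.range (f j)) (Z : Set Y)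
    (h : ∀ j, TopProp (f j ⁻¹' Z)) : TopProp Z := by
  intro W hW ⟨O, hO, hWO⟩
  have key : ∀ j, ∃! U : Set (P j), IsClopen U ∧ U ∩ f j ⁻¹' Z = f j ⁻¹' W := by
    intro j
    refine h j _ (hW.preimage (hf j).continuous) ⟨f j ⁻¹' O, hO.preimage (hf j).continuous, ?_⟩
    rw [hWO, Set.preimage_inter]
  choose U hU huniq using key
  -- membership in the union
  have hmem : ∀ j (y' : P j), f j y' ∈ ⋃ k, f k '' U k ↔ y' ∈ U j := by
    intro j y'
    constructor
    · intro hy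
      obtain ⟨k, hk⟩ := Set.mem_iUnion.mp hy
      obtain ⟨z, hz, hzy⟩ := hk
      by_cases hjk : j = k
      · subst hjk
        rwa [← (hf j).injective hzy]
      · exact absurd (show f j y' ∈ Set.range (f j) ∩ Set.range (f k) from ⟨⟨y', rfl⟩, ⟨z, hzy⟩⟩)
          (by rw [Set.disjoint_iff_inter_eq_empty.mp (hdisj j k hjk)]; exact Set.notMem_empty _)
    · intro hy
      exact Set.mem_iUnion.mpr ⟨j, y', hy, rfl⟩
  have hopen : IsOpen (⋃ k, f k '' U k) :=
    isOpen_iUnion fun k => (hf k).isOpenMap _ (hU k).1.2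
  have hcompl : (⋃ k, f k '' U k)ᶜ = ⋃ k, f k '' (U k)ᶜ := by
    ext y
    obtain ⟨j, y', rfl⟩ := hcov y
    rw [Set.mem_compl_iff, hmem]
    constructor
    · intro hy
      exact Set.mem_iUnion.mpr ⟨j, y', hy, rfl⟩
    · intro hy
      obtain ⟨k, z, hz, hzy⟩ := Set.mem_iUnion.mp hy
      by_cases hjk : j = k
      · subst hjk
        rwa [← (hf j).injective hzy]
      · exact absurd (show f j y' ∈ Set.range (f j) ∩ Set.range (f k) from ⟨⟨y', rfl⟩, ⟨z, hzy⟩⟩)
          (by rw [Set.disjoint_iff_inter_eq_empty.mp (hdisj j k hjk)]; exact Set.notMem_empty _)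
  have hclosed : IsClosed (⋃ k, f k '' U k) := by
    rw [← isOpen_compl_iff, hcompl]
    exact isOpen_iUnion fun k => (hf k).isOpenMap _ (hU k).1.1.isOpen_compl
  refine ⟨⋃ k, f k '' U k, ⟨⟨hclosed, hopen⟩, ?_⟩, ?_⟩
  · ext y
    obtain ⟨j, y', rfl⟩ := hcov y
    rw [Set.mem_inter_iff, hmem]
    have := (hU j).2
    have h2 : y' ∈ U j ∩ f j ⁻¹' Z ↔ y' ∈ f j ⁻¹' W := by rw [this]
    exact h2
  · rintro U' ⟨hU', hU'W⟩
    ext y
    obtain ⟨j, y', rfl⟩ := hcov y
    rw [hmem]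
    have := huniq j (f j ⁻¹' U') ⟨hU'.preimage (hf j).continuous, by
      rw [← Set.preimage_inter, hU'W]⟩
    rw [← this]
    rfl

end Groth.Agent.H5.HensCouple
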