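import Mathlib
import Groth.Agent.Lib.Helper5.HensCouple.D
import Groth.Agent.Lib.Helper5.HensCouple.E

set_option autoImplicit false
universe u

open AlgebraicGeometry CategoryTheory Limits

namespace Groth.Agent.H5.HensCouple

section
variable {ι : Type u} (X X₀ : ι → Scheme.{u}) (i : ∀ j, X₀ j ⟶ X j)

lemma exists_sigmaι_eq (y : ↥(∐ X)) : ∃ (j : ι) (x : X j), (Limits.Sigma.ι X j).base x = y := by
  obtain ⟨⟨j, x⟩, rfl⟩ := (sigmaMk X).surjective y
  exact ⟨j, x, (sigmaMk_mk X j x).symm⟩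

lemma sigmaMap_apply (j : ι) (x : X₀ j) :
    (Limits.Sigma.map i).base ((Limits.Sigma.ι X₀ j).base x) = (Limits.Sigma.ι X j).base ((i j).base x) := by
  rw [← Scheme.Hom.comp_apply, ← Scheme.Hom.comp_apply, Limits.Sigma.ι_map]

lemma sigmaι_injective (j : ι) : Function.Injective (Limits.Sigma.ι X j).base :=
  (Limits.Sigma.ι X j).isOpenEmbedding.injective

lemma sigmaι_eq_imp {j k : ι} {x : X j} {y : X k}
    (h : (Limits.Sigma.ι X j).base x = (Limits.Sigma.ι X k).base y) : j = k := by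
  have := (sigmaι_eq_iff X j k x y).mp h
  exact (Sigma.mk.inj_iff.mp this).1

lemma preimage_range_sigmaMap (j : ι) :
    (Limits.Sigma.ι X j).base ⁻¹' Set.range (Limits.Sigma.map i).base = Set.range (i j).base := by
  ext y
  constructor
  · rintro ⟨z, hz⟩
    obtain ⟨k, x, rfl⟩ := exists_sigmaι_eq X₀ z
    rw [sigmaMap_apply] at hz
    obtain rfl := sigmaι_eq_imp X hz
    exact ⟨x, sigmaι_injective X k hz⟩
  · rintro ⟨x, rfl⟩
    exact ⟨(Limits.Sigma.ι X₀ j).base x, sigmaMap_apply X X₀ i j x⟩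

lemma isPullback_sigma (j : ι) :
    IsPullback (i j) (Limits.Sigma.ι X₀ j) (Limits.Sigma.ι X j) (Limits.Sigma.map i) := by
  refine IsOpenImmersion.isPullback (i j) (Limits.Sigma.ι X₀ j) (Limits.Sigma.ι X j) (Limits.Sigma.map i)
    (Limits.Sigma.ι_map _ _) ?_
  ext z
  obtain ⟨k, x, rfl⟩ := exists_sigmaι_eq X₀ z
  constructor
  · rintro ⟨y, hy⟩
    have hy' : (Limits.Sigma.ι X j).base y = (Limits.Sigma.map i).base ((Limits.Sigma.ι X₀ k).base x) := hy
    rw [sigmaMap_apply] at hy'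
    obtain rfl := sigmaι_eq_imp X hy'
    exact ⟨x, rfl⟩
  · rintro ⟨x', hx'⟩
    have hx'' : (Limits.Sigma.ι X₀ j).base x' = (Limits.Sigma.ι X₀ k).base x := hx'
    obtain rfl := sigmaι_eq_imp X₀ hx''
    refine ⟨(i j).base x, ?_⟩
    exact (sigmaMap_apply X X₀ i j x).symm

instance isClosedImmersion_sigmaMap [∀ j, IsClosedImmersion (i j)] :
    IsClosedImmersion (Limits.Sigma.map i) := by
  rw [IsZariskiLocalAtTarget.iff_of_openCover (P := @IsClosedImmersion) (sigmaOpenCover X)]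
  intro j
  have h := (isPullback_sigma X X₀ i j).flip
  have e : pullback.snd (Limits.Sigma.map i) (Limits.Sigma.ι X j) = h.isoPullback.inv ≫ i j := by
    rw [Iso.eq_inv_comp, h.isoPullback_hom_snd]
  change IsClosedImmersion (pullback.snd (Limits.Sigma.map i) (Limits.Sigma.ι X j))
  rw [e]
  infer_instance

end

end Groth.Agent.H5.HensCouple
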