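import Mathlib

set_option autoImplicit false
universe u

open AlgebraicGeometry CategoryTheory TopologicalSpace Opposite

namespace Groth.Agent.H5.HensCouple

lemma idem_eq_zero_or_one_of_isLocalRing {R : Type*} [CommRing R] [IsLocalRing R] {e : R}
    (he : IsIdempotentElem e) : e = 0 ∨ e = 1 := by
  rcases IsLocalRing.isUnit_or_isUnit_one_sub_self e with h | h
  · right
    have h1 : e * e = e * 1 := by rw [he.eq, mul_one]
    exact h.mul_left_cancel h1
  · left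
    have h1 : (1 - e) * e = (1 - e) * 0 := by rw [mul_zero, sub_mul, one_mul, he.eq, sub_self]
    exact h.mul_left_cancel h1

lemma germ_idem {X : Scheme.{u}} {e : Γ(X, ⊤)} (he : IsIdempotentElem e) (x : X) :
    (x ∈ X.basicOpen e ∧ X.presheaf.germ ⊤ x trivial e = 1) ∨
      (x ∉ X.basicOpen e ∧ X.presheaf.germ ⊤ x trivial e = 0) := by
  have h1 : IsIdempotentElem (X.presheaf.germ ⊤ x trivial e) := he.map (X.presheaf.germ ⊤ x trivial).hom
  rcases idem_eq_zero_or_one_of_isLocalRing h1 with h | h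
  · right
    refine ⟨?_, h⟩
    rw [Scheme.mem_basicOpen_top, h]
    exact not_isUnit_zero
  · left
    refine ⟨?_, h⟩
    rw [Scheme.mem_basicOpen_top, h]
    exact isUnit_one

theorem idem_eq_of_basicOpen_eq {X : Scheme.{u}} {e e' : Γ(X, ⊤)} (he : IsIdempotentElem e)
    (he' : IsIdempotentElem e') (h : X.basicOpen e = X.basicOpen e') : e = e' := by
  refine TopCat.Presheaf.section_ext X.sheaf ⊤ e e' (fun x hx => ?_)
  change X.presheaf.germ ⊤ x trivial e = X.presheaf.germ ⊤ x trivial e'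
  rcases germ_idem he x with ⟨h1, h2⟩ | ⟨h1, h2⟩ <;>
    rcases germ_idem he' x with ⟨h3, h4⟩ | ⟨h3, h4⟩
  · rw [h2, h4]
  · rw [h] at h1; exact absurd h1 h3
  · rw [h] at h1; exact absurd h3 h1
  · rw [h2, h4]

theorem basicOpen_one_sub_idem {X : Scheme.{u}} {e : Γ(X, ⊤)} (he : IsIdempotentElem e) :
    (X.basicOpen (1 - e) : Set X) = (X.basicOpen e : Set X)ᶜ := by
  ext x
  simp only [SetLike.mem_coe, Set.mem_compl_iff]
  rw [Scheme.mem_basicOpen_top, map_sub, map_one]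
  rcases germ_idem he x with ⟨h1, h2⟩ | ⟨h1, h2⟩
  · rw [h2, sub_self]
    exact ⟨fun h => absurd h not_isUnit_zero, fun h => absurd h1 h⟩
  · rw [h2, sub_zero]
    exact ⟨fun _ => h1, fun _ => isUnit_one⟩

theorem isClopen_basicOpen_idem {X : Scheme.{u}} {e : Γ(X, ⊤)} (he : IsIdempotentElem e) :
    IsClopen (X.basicOpen e : Set X) := by
  refine ⟨?_, (X.basicOpen e).isOpen⟩
  rw [← isOpen_compl_iff, ← basicOpen_one_sub_idem he]
  exact (X.basicOpen (1 - e)).isOpen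


theorem exists_idem_basicOpen_eq {X : Scheme.{u}} {U : Set X} (hU : IsClopen U) :
    ∃ e : Γ(X, ⊤), IsIdempotentElem e ∧ (X.basicOpen e : Set X) = U := by
  let U₁ : X.Opens := ⟨U, hU.isOpen⟩
  let U₂ : X.Opens := ⟨Uᶜ, hU.compl.isOpen⟩
  have hsup : (⊤ : X.Opens) ≤ U₁ ⊔ U₂ := by
    intro x _
    by_cases hx : x ∈ U
    · exact Or.inl hx
    · exact Or.inr hx
  have hinf : U₁ ⊓ U₂ = ⊥ := by
    ext x
    simp only [Opens.coe_inf, Opens.coe_bot, Set.mem_inter_iff, Set.mem_empty_iff_false, iff_false,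
      not_and]
    intro h1 h2
    exact h2 h1
  haveI : Subsingleton Γ(X, U₁ ⊓ U₂) := by rw [hinf]; infer_instance
  haveI : Subsingleton ↑(X.sheaf.obj.obj (op (U₁ ⊓ U₂))) := this
  let s : Γ(X, U₁ ⊔ U₂) :=
    (X.sheaf.objSupIsoProdEqLocus U₁ U₂).inv ⟨(1, 0), Subsingleton.elim _ _⟩
  have hs1 : X.presheaf.map (homOfLE le_sup_left).op s = 1 :=
    X.sheaf.objSupIsoProdEqLocus_inv_fst U₁ U₂ _
  have hs2 : X.presheaf.map (homOfLE le_sup_right).op s = 0 :=
    X.sheaf.objSupIsoProdEqLocus_inv_snd U₁ U₂ _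
  let e : Γ(X, ⊤) := X.presheaf.map (homOfLE hsup).op s
  have he1 : X.presheaf.map (homOfLE (le_top : U₁ ≤ ⊤)).op e = 1 := by
    rw [← hs1]
    change (X.presheaf.map (homOfLE hsup).op ≫ X.presheaf.map (homOfLE (le_top : U₁ ≤ ⊤)).op) s = _
    rw [← X.presheaf.map_comp]
    rfl
  have he2 : X.presheaf.map (homOfLE (le_top : U₂ ≤ ⊤)).op e = 0 := by
    rw [← hs2]
    change (X.presheaf.map (homOfLE hsup).op ≫ X.presheaf.map (homOfLE (le_top : U₂ ≤ ⊤)).op) s = _
    rw [← X.presheaf.map_comp]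
    rfl
  refine ⟨e, ?_, ?_⟩
  · refine TopCat.Sheaf.eq_of_locally_eq₂ X.sheaf (homOfLE (le_top : U₁ ≤ ⊤))
      (homOfLE (le_top : U₂ ≤ ⊤)) hsup (e * e) e ?_ ?_
    · change X.presheaf.map (homOfLE (le_top : U₁ ≤ ⊤)).op (e * e) =
        X.presheaf.map (homOfLE (le_top : U₁ ≤ ⊤)).op e
      rw [map_mul, he1, mul_one]
    · change X.presheaf.map (homOfLE (le_top : U₂ ≤ ⊤)).op (e * e) =
        X.presheaf.map (homOfLE (le_top : U₂ ≤ ⊤)).op e
      rw [map_mul, he2, mul_zero]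
  · have h1 : U₁ ⊓ X.basicOpen e = U₁ := by
      rw [← Scheme.basicOpen_res X e (homOfLE (le_top : U₁ ≤ ⊤)).op, he1, Scheme.basicOpen_one]
    have h2 : U₂ ⊓ X.basicOpen e = ⊥ := by
      rw [← Scheme.basicOpen_res X e (homOfLE (le_top : U₂ ≤ ⊤)).op, he2, Scheme.basicOpen_zero]
    ext x
    constructor
    · intro hx
      by_contra hxU
      have : x ∈ U₂ ⊓ X.basicOpen e := ⟨hxU, hx⟩
      rw [h2] at this
      exact this
    · intro hx
      have : x ∈ U₁ ⊓ X.basicOpen e := by rw [h1]; exact hx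
      exact this.2

end Groth.Agent.H5.HensCouple
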