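import Mathlib
import Groth.Agent.Lib.Helper5.HensCouple.F

set_option autoImplicit false
universe u

open AlgebraicGeometry CategoryTheory Limits

namespace Groth.Agent.H5.HensCouple

section
variable {ι : Type u} (X X₀ : ι → Scheme.{u}) (i : ∀ j, X₀ j ⟶ X j)

lemma range_sigmaι (j : ι) :
    Set.range (Limits.Sigma.ι X j).base = (sigmaMk X) '' Set.range (Sigma.mk j) := by
  ext y
  constructor
  · rintro ⟨x, rfl⟩
    exact ⟨⟨j, x⟩, ⟨x, rfl⟩, sigmaMk_mk X j x⟩
  · rintro ⟨_, ⟨x, rfl⟩, rfl⟩
    exact ⟨x, (sigmaMk_mk X j x).symm⟩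

instance isClosedImmersion_sigmaι (j : ι) : IsClosedImmersion (Limits.Sigma.ι X j) := by
  refine IsClosedImmersion.of_isPreimmersion _ ?_
  rw [range_sigmaι]
  exact (sigmaMk X).isClosedEmbedding.isClosedMap _ isClosed_range_sigmaMk

theorem main_sigma [∀ j, IsClosedImmersion (i j)] :
    (∀ (Y : Scheme.{u}) (g : Y ⟶ ∐ X), IsFinite g →
      ∀ V : Set ↥(pullback g (Limits.Sigma.map i)), IsClopen V →
        ∃! U : Set ↥Y, IsClopen U ∧ (pullback.fst g (Limits.Sigma.map i)).base ⁻¹' U = V) ↔
    ∀ j : ι, ∀ (Y : Scheme.{u}) (g : Y ⟶ X j), IsFinite g →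
      ∀ V : Set ↥(pullback g (i j)), IsClopen V →
        ∃! U : Set ↥Y, IsClopen U ∧ (pullback.fst g (i j)).base ⁻¹' U = V := by
  constructor
  · intro H j Y g hg
    rw [couple_iff]
    have h1 := H Y (g ≫ Limits.Sigma.ι X j) inferInstance
    rw [couple_iff] at h1
    have e : (g ≫ Limits.Sigma.ι X j).base ⁻¹' Set.range (Limits.Sigma.map i).base
        = g.base ⁻¹' Set.range (i j).base := by
      rw [← preimage_range_sigmaMap X X₀ i j]
      rfl
    rwa [e] at h1
  · intro H Y g hg
    rw [couple_iff]
    refine topProp_of_disjoint_cover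
      (fun j => (pullback.fst g (Limits.Sigma.ι X j)).base)
      (fun j => (pullback.fst g (Limits.Sigma.ι X j)).isOpenEmbedding) ?_ ?_ _ ?_
    · intro j k hjk
      rw [Set.disjoint_iff_inter_eq_empty]
      ext y
      simp only [Set.mem_inter_iff, Set.mem_empty_iff_false, iff_false, not_and]
      rintro ⟨a, rfl⟩ ⟨b, hb⟩
      have h1 : (Limits.Sigma.ι X j).base ((pullback.snd g (Limits.Sigma.ι X j)).base a)
          = g.base ((pullback.fst g (Limits.Sigma.ι X j)).base a) := by
        rw [← Scheme.Hom.comp_apply, ← Scheme.Hom.comp_apply, pullback.condition]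
      have h2 : (Limits.Sigma.ι X k).base ((pullback.snd g (Limits.Sigma.ι X k)).base b)
          = g.base ((pullback.fst g (Limits.Sigma.ι X k)).base b) := by
        rw [← Scheme.Hom.comp_apply, ← Scheme.Hom.comp_apply, pullback.condition]
      have hb' : (pullback.fst g (Limits.Sigma.ι X k)).base b
          = (pullback.fst g (Limits.Sigma.ι X j)).base a := hb
      rw [hb', ← h1] at h2
      exact hjk (sigmaι_eq_imp X h2).symm
    · intro y
      obtain ⟨j, x, hx⟩ := exists_sigmaι_eq X (g.base y)
      have : y ∈ Set.range (pullback.fst g (Limits.Sigma.ι X j)).base := by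
        rw [Scheme.Pullback.range_fst]
        exact ⟨x, hx⟩
      exact ⟨j, this⟩
    · intro j
      have h1 := H j _ (pullback.snd g (Limits.Sigma.ι X j)) inferInstance
      rw [couple_iff] at h1
      have e : (pullback.fst g (Limits.Sigma.ι X j)).base ⁻¹'
            (g.base ⁻¹' Set.range (Limits.Sigma.map i).base)
          = (pullback.snd g (Limits.Sigma.ι X j)).base ⁻¹' Set.range (i j).base := by
        rw [← preimage_range_sigmaMap X X₀ i j]
        ext a
        simp only [Set.mem_preimage]
        have h1 : (Limits.Sigma.ι X j).base ((pullback.snd g (Limits.Sigma.ι X j)).base a)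
            = g.base ((pullback.fst g (Limits.Sigma.ι X j)).base a) := by
          rw [← Scheme.Hom.comp_apply, ← Scheme.Hom.comp_apply, pullback.condition]
        rw [h1]
      rw [e]
      exact h1

end

end Groth.Agent.H5.HensCouple
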