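import Mathlib

set_option autoImplicit false
universe u

open CategoryTheory Limits TensorProduct

namespace Groth.Agent.H5.HensCouple

lemma mem_map_ker_of_tmul_eq_zero {R R₀ C : Type*} [CommRing R] [CommRing R₀] [CommRing C]
    [Algebra R R₀] [Algebra R C] [Module.Flat R C] (c : C) (hc : (1 : R₀) ⊗ₜ[R] c = 0) :
    c ∈ Ideal.map (algebraMap R C) (RingHom.ker (algebraMap R R₀)) := by
  let g : R →ₗ[R] R₀ := Algebra.linearMap R R₀
  have hex : Function.Exact (LinearMap.ker g).subtype g := LinearMap.exact_subtype_ker_map g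
  have hex' := Module.Flat.rTensor_exact C hex
  have h0 : (g.rTensor C) ((1 : R) ⊗ₜ[R] c) = 0 := by
    rw [LinearMap.rTensor_tmul]
    change (algebraMap R R₀ 1) ⊗ₜ[R] c = 0
    rw [map_one, hc]
  obtain ⟨z, hz⟩ := (hex' _).mp h0
  have key : ∀ z : (LinearMap.ker g) ⊗[R] C,
      TensorProduct.lid R C (((LinearMap.ker g).subtype.rTensor C) z) ∈
        Ideal.map (algebraMap R C) (RingHom.ker (algebraMap R R₀)) := by
    intro z
    induction z using TensorProduct.induction_on with
    | zero => simp
    | tmul k c' =>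
      rw [LinearMap.rTensor_tmul, TensorProduct.lid_tmul, Submodule.subtype_apply, Algebra.smul_def]
      refine Ideal.mul_mem_right _ _ (Ideal.mem_map_of_mem _ ?_)
      exact k.2
    | add a b ha hb =>
      rw [map_add, map_add]
      exact Ideal.add_mem _ ha hb
  have := key z
  rw [hz, TensorProduct.lid_tmul, one_smul] at this
  exact this

theorem mem_map_ker_of_isPushout {R R₀ C P : CommRingCat.{u}} {α : R ⟶ R₀} {β : R ⟶ C}
    {γ : R₀ ⟶ P} {δ : C ⟶ P} (H : IsPushout α β γ δ) (hβ : β.hom.Flat) (c : C)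
    (hc : δ c = 0) : c ∈ Ideal.map β.hom (RingHom.ker α.hom) := by
  letI : Algebra R R₀ := α.hom.toAlgebra
  letI : Algebra R C := β.hom.toAlgebra
  haveI : Module.Flat R C := hβ
  have H' := CommRingCat.isPushout_tensorProduct R R₀ C
  let e := H.isoIsPushout _ _ H'
  have h1 : δ ≫ e.hom = CommRingCat.ofHom
      (Algebra.TensorProduct.includeRight (R := R) (A := R₀) (B := C)).toRingHom :=
    IsPushout.inr_isoIsPushout_hom _ _ H H'
  have h2 : (1 : R₀) ⊗ₜ[R] c = 0 := by
    have := congrArg (fun φ => φ.hom c) h1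
    simp only [CommRingCat.hom_comp, RingHom.coe_comp, Function.comp_apply,
      CommRingCat.hom_ofHom] at this
    rw [hc, map_zero] at this
    exact this.symm
  exact mem_map_ker_of_tmul_eq_zero (R := R) (R₀ := R₀) c h2

end Groth.Agent.H5.HensCouple
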