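import Mathlib

set_option autoImplicit false
universe u

open AlgebraicGeometry CategoryTheory Limits

namespace Groth.Agent.H5.HensCouple

lemma appLE_top_top {X Y : Scheme.{u}} (f : X ⟶ Y) (h : (⊤ : X.Opens) ≤ f ⁻¹ᵁ ⊤) :
    f.appLE ⊤ ⊤ h = f.appTop := by
  simp [Scheme.Hom.appLE, Scheme.Hom.appTop]

/-- Flat base change for global sections of a qcqs scheme over an affine base. -/
theorem isPushout_appTop_of_flat {X Y T S : Scheme.{u}} [CompactSpace X] [QuasiSeparatedSpace X]
    [IsAffine S] [IsAffine T]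
    {g : Y ⟶ X} {iY : Y ⟶ T} {iX : X ⟶ S} {f : T ⟶ S} (H : IsPullback g iY iX f) [Flat f] :
    IsPushout iX.appTop f.appTop g.appTop iY.appTop := by
  have h1 : IsIso (pushoutSection H (US := ⊤) (UT := ⊤) (UX := ⊤) (UY := ⊤) le_top le_top
      (by simp)) :=
    isIso_pushoutSection_of_isQuasiSeparated_of_flat_right H _ _ _ (isAffineOpen_top S)
      (isAffineOpen_top T) CompactSpace.isCompact_univ isQuasiSeparated_univ
  have h2 := (isIso_pushoutSection_iff H (US := ⊤) (UT := ⊤) (UX := ⊤) (UY := ⊤) le_top le_top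
      (by simp)).mp h1
  simpa only [appLE_top_top] using h2

end Groth.Agent.H5.HensCouple
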