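import Mathlib
import Groth.Agent.Lib.Helper5.HensCouple.B
import Groth.Agent.Lib.Helper5.HensCouple.H

set_option autoImplicit false
universe u

open AlgebraicGeometry CategoryTheory Limits

namespace Groth.Agent.H5.HensCouple

section
variable {X X₀ : Scheme.{u}} (i : X₀ ⟶ X) [IsClosedImmersion i]
  (hX : ∀ (Y : Scheme.{u}) (g : Y ⟶ X), IsFinite g →
      ∀ V : Set ↥(pullback g i), IsClopen V →
        ∃! U : Set ↥Y, IsClopen U ∧ (pullback.fst g i).base ⁻¹' U = V)

include hX in
theorem eq_empty_of_isClosed_of_disjoint (Z : Set X) (hZ : IsClosed Z)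
    (hd : Z ∩ Set.range i.base = ∅) : Z = ∅ := by
  let I := Scheme.IdealSheafData.vanishingIdeal ⟨Z, hZ⟩
  have hr : Set.range I.subschemeι.base = Z := by
    have := I.range_subschemeι
    rw [Scheme.IdealSheafData.coe_support_vanishingIdeal] at this
    exact this
  have h1 := (couple_iff i I.subschemeι).mp (hX _ I.subschemeι inferInstance)
  have h2 : I.subschemeι.base ⁻¹' Set.range i.base = ∅ := by
    ext y
    simp only [Set.mem_preimage, Set.mem_empty_iff_false, iff_false]
    intro hy
    have : I.subschemeι.base y ∈ Z ∩ Set.range i.base := ⟨hr ▸ ⟨y, rfl⟩, hy⟩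
    rw [hd] at this
    exact this
  rw [h2] at h1
  obtain ⟨U, _, huniq⟩ := h1 ∅ isClosed_empty ⟨∅, isOpen_empty, by simp⟩
  have e1 := huniq ∅ ⟨isClopen_empty, by simp⟩
  have e2 := huniq Set.univ ⟨isClopen_univ, by simp⟩
  have e3 : (Set.univ : Set I.subscheme) = ∅ := e2.trans e1.symm
  rw [← hr]
  ext x
  simp only [Set.mem_range, Set.mem_empty_iff_false, iff_false, not_exists]
  intro y _
  have : y ∈ (Set.univ : Set I.subscheme) := Set.mem_univ y
  rw [e3] at this
  exact this

include hX in
theorem ker_le_jacobson : RingHom.ker i.appTop.hom ≤ Ideal.jacobson ⊥ := by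
  intro b hb
  rw [Ideal.mem_jacobson_bot]
  intro y
  set w : Γ(X, ⊤) := b * y + 1 with hw
  have hiw : i.appTop.hom w = 1 := by
    rw [hw, map_add, map_mul, (RingHom.mem_ker).mp hb, zero_mul, zero_add, map_one]
  have hZ : ((X.basicOpen w : Set X))ᶜ = ∅ := by
    refine eq_empty_of_isClosed_of_disjoint i hX _ (X.basicOpen w).isOpen.isClosed_compl ?_
    ext x
    simp only [Set.mem_inter_iff, Set.mem_compl_iff, SetLike.mem_coe, Set.mem_range,
      Set.mem_empty_iff_false, iff_false, not_and, not_exists]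
    intro hx x₀ hx₀
    apply hx
    have h3 : x₀ ∈ i ⁻¹ᵁ X.basicOpen w := by
      rw [Scheme.preimage_basicOpen_top]
      have : i.appTop w = 1 := hiw
      rw [this, Scheme.basicOpen_one]
      trivial
    rw [← hx₀]
    exact h3
  have htop : X.basicOpen w = ⊤ := by
    ext x
    simp only [TopologicalSpace.Opens.coe_top, Set.mem_univ, iff_true]
    by_contra hx
    have : x ∈ ((X.basicOpen w : Set X))ᶜ := hx
    rw [hZ] at this
    exact this
  have := X.toRingedSpace.isUnit_of_isUnit_germ ⊤ w (fun x hx => ?_)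
  · exact this
  · have hx' : x ∈ X.basicOpen w := by rw [htop]; trivial
    exact (Scheme.mem_basicOpen X w x hx).mp hx'

end

end Groth.Agent.H5.HensCouple
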