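import Mathlib
import Groth.Agent.Lib.Helper5.HensCouple.I
import Groth.Agent.Lib.Helper5.HensCouple.J
import Groth.Agent.Lib.Helper5.HensCouple.K
import Groth.Agent.Lib.Helper8.HensPair.IdemCrit

set_option autoImplicit false
universe u

open AlgebraicGeometry CategoryTheory Limits

namespace Groth.Agent.H5.HensCouple

section
variable {X X₀ : Scheme.{u}} (i : X₀ ⟶ X) [IsClosedImmersion i]
  [CompactSpace ↥X] [QuasiSeparatedSpace ↥X]
  (hX : ∀ (Y : Scheme.{u}) (g : Y ⟶ X), IsFinite g →
      ∀ V : Set ↥(pullback g i), IsClopen V →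
        ∃! U : Set ↥Y, IsClopen U ∧ (pullback.fst g i).base ⁻¹' U = V)

include hX in
/-- Idempotent lifting for a finite flat algebra over `Γ(X, ⊤)`. -/
theorem surjOn_idem {C : CommRingCat.{u}} (φ : Γ(X, ⊤) ⟶ C) (hflat : φ.hom.Flat)
    (hfin : φ.hom.Finite) :
    Set.SurjOn (Ideal.Quotient.mk (Ideal.map φ.hom (RingHom.ker i.appTop.hom)))
      {e : C | IsIdempotentElem e} {e | IsIdempotentElem e} := by
  haveI : CompactSpace ↥X₀ := i.isClosedEmbedding.compactSpace
  haveI : QuasiSeparatedSpace ↥X₀ := quasiSeparatedSpace_of_quasiSeparated i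
  let a : X ⟶ Spec Γ(X, ⊤) := X.toSpecΓ
  let f : Spec C ⟶ Spec Γ(X, ⊤) := Spec.map φ
  haveI : Flat f := Flat.SpecMap_iff.mpr hflat
  haveI : IsFinite f := (IsFinite.SpecMap_iff φ).mpr hfin
  let g : pullback a f ⟶ X := pullback.fst a f
  let q : pullback a f ⟶ Spec C := pullback.snd a f
  haveI : IsFinite g := MorphismProperty.pullback_fst a f inferInstance
  let fst' : pullback g i ⟶ pullback a f := pullback.fst g i
  let snd' : pullback g i ⟶ X₀ := pullback.snd g i
  have H : IsPullback g q a f := IsPullback.of_hasPullback a f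
  have H₀ : IsPullback snd' (fst' ≫ q) (i ≫ a) f :=
    ((IsPullback.of_hasPullback g i).paste_horiz H.flip).flip
  have PO := isPushout_appTop_of_flat H
  have PO₀ := isPushout_appTop_of_flat H₀
  -- q.appTop is an isomorphism
  haveI : IsIso a.appTop := by
    rw [Scheme.toSpecΓ_appTop]; infer_instance
  haveI hq : IsIso q.appTop := by
    have h1 : q.appTop = pushout.inr a.appTop f.appTop ≫ PO.isoPushout.inv :=
      (PO.inr_isoPushout_inv).symm
    rw [h1]
    infer_instance
  let θY : C ⟶ Γ(pullback a f, ⊤) := (Scheme.ΓSpecIso C).inv ≫ q.appTop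
  haveI : IsIso θY := by dsimp only [θY]; infer_instance
  let θ : C ⟶ Γ(pullback g i, ⊤) := θY ≫ fst'.appTop
  have PO₀' : IsPushout i.appTop φ snd'.appTop θ := by
    refine PO₀.of_iso (Scheme.ΓSpecIso Γ(X, ⊤)) (Iso.refl _) (Scheme.ΓSpecIso C) (Iso.refl _)
      ?_ ?_ ?_ ?_
    · rw [Scheme.Hom.comp_appTop, Scheme.toSpecΓ_appTop]; simp
    · exact Scheme.ΓSpecIso_naturality φ
    · simp
    · simp only [Iso.refl_hom, Category.comp_id, θ, θY, Scheme.Hom.comp_appTop, Category.assoc,
        Iso.hom_inv_id_assoc]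
  have hker : ∀ c : C, θ c = 0 → c ∈ Ideal.map φ.hom (RingHom.ker i.appTop.hom) :=
    fun c hc => mem_map_ker_of_isPushout PO₀' hflat c hc
  have hJ : ∀ c : C, c ∈ Ideal.map φ.hom (RingHom.ker i.appTop.hom) → θ c = 0 := by
    intro c hc
    have hle : Ideal.map φ.hom (RingHom.ker i.appTop.hom) ≤ RingHom.ker θ.hom := by
      rw [Ideal.map_le_iff_le_comap]
      intro b hb
      rw [Ideal.mem_comap, RingHom.mem_ker]
      have hw := congrArg (fun ψ => ψ.hom b) PO₀'.w
      simp only [CommRingCat.hom_comp, RingHom.coe_comp, Function.comp_apply] at hw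
      rw [← hw, (RingHom.mem_ker).mp hb, map_zero]
    exact (RingHom.mem_ker).mp (hle hc)
  -- main argument
  intro ē hē
  obtain ⟨y, rfl⟩ := Ideal.Quotient.mk_surjective ē
  have hy : y * y - y ∈ Ideal.map φ.hom (RingHom.ker i.appTop.hom) := by
    rw [← Ideal.Quotient.eq, map_mul]
    exact hē
  have hθy : IsIdempotentElem (θ y) := by
    have := hJ _ hy
    rw [map_sub, map_mul, sub_eq_zero] at this
    exact this
  obtain ⟨U, ⟨hU, hUV⟩, _⟩ := hX _ g inferInstance _ (isClopen_basicOpen_idem hθy)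
  obtain ⟨ε, hε, hεU⟩ := exists_idem_basicOpen_eq hU
  let e : C := (inv θY) ε
  have hθYe : θY e = ε := by
    change (inv θY ≫ θY) ε = ε
    rw [IsIso.inv_hom_id]; rfl
  have he : IsIdempotentElem e := hε.map (inv θY).hom
  have hθe : θ e = fst'.appTop ε := by
    change fst'.appTop (θY e) = _
    rw [hθYe]
  have hθe_idem : IsIdempotentElem (θ e) := he.map θ.hom
  have hopen : (pullback g i).basicOpen (θ e) = (pullback g i).basicOpen (θ y) := by
    rw [hθe, ← Scheme.preimage_basicOpen_top]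
    apply TopologicalSpace.Opens.ext
    change fst'.base ⁻¹' ((pullback a f).basicOpen ε : Set _) = _
    rw [hεU]
    exact hUV
  have heq : θ e = θ y := idem_eq_of_basicOpen_eq hθe_idem hθy hopen
  refine ⟨e, he, ?_⟩
  rw [Ideal.Quotient.eq]
  apply hker
  rw [map_sub, heq, sub_self]

include hX in
theorem main_gamma : HenselianRing (Γ(X, ⊤) : Type u) (RingHom.ker i.appTop.hom) := by
  refine Groth.Agent.H8.HensPair.henselianRing_of_special _ (ker_le_jacobson i hX) ?_
  intro m p hp _
  haveI : Module.Free (Γ(X, ⊤) : Type u) (AdjoinRoot p) :=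
    Module.Free.of_basis (AdjoinRoot.powerBasis' hp).basis
  haveI : Module.Finite (Γ(X, ⊤) : Type u) (AdjoinRoot p) := (AdjoinRoot.powerBasis' hp).finite
  exact surjOn_idem i hX (C := CommRingCat.of (AdjoinRoot p))
    (CommRingCat.ofHom (algebraMap (Γ(X, ⊤) : Type u) (AdjoinRoot p)))
    (RingHom.flat_algebraMap_iff.mpr inferInstance) (RingHom.finite_algebraMap.mpr inferInstance)

end

end Groth.Agent.H5.HensCouple
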